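import Groth.Agent.LocFreeAnn.Free
import Mathlib.CategoryTheory.Idempotents.Basic
import Mathlib.Algebra.Module.Projective
import Mathlib.RingTheory.Finiteness.Cardinality

/-!
# Retracts of finite free modules and finite projective modules of global sections
-/

set_option autoImplicit false
set_option linter.style.haveILetI false

universe u

open CategoryTheory CategoryTheory.Limits AlgebraicGeometry Opposite TopologicalSpace

namespace Groth.Agent.FreeRetract

open LocFreeAnn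

variable {X : Scheme.{u}} {M N : X.Modules}

/-- Global sections of a morphism, linearly. -/
noncomputable def gl (φ : M ⟶ N) : Γ(M, ⊤) →ₗ[Γ(X, ⊤)] Γ(N, ⊤) where
  toFun := φ.app ⊤
  map_add' := map_add (φ.app ⊤).hom
  map_smul' r z := app_smul' φ ⊤ r z

lemma gl_apply (φ : M ⟶ N) (z : Γ(M, ⊤)) : gl φ z = φ.app ⊤ z := rfl

/-- The functor of global sections. -/
noncomputable def gFun : X.Modules ⥤ ModuleCat.{u} Γ(X, ⊤) where
  obj M := ModuleCat.of Γ(X, ⊤) Γ(M, ⊤)
  map φ := ModuleCat.ofHom (gl φ)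
  map_id M := ModuleCat.hom_ext (LinearMap.ext fun _ => rfl)
  map_comp φ ψ := ModuleCat.hom_ext (LinearMap.ext fun _ => rfl)

/-- The map out of a free module given by global sections. -/
noncomputable def mkHom {n : ℕ} (t : Fin n → Γ(M, ⊤)) : FlatMod.freeMod X n ⟶ M :=
  Sigma.desc fun i => CohVanish.homOfSection M (t i)

lemma mkHom_gen {n : ℕ} (t : Fin n → Γ(M, ⊤)) (i : Fin n) : (mkHom t).app ⊤ (gen X n i) = t i := by
  change (Sigma.ι (fun _ : Fin n => Coh.structureModule X) i ≫ mkHom t).app ⊤ (1 : Γ(X, ⊤)) = t i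
  rw [mkHom, Sigma.ι_desc]
  refine (CohVanish.homOfSection_app M (t i) ⊤ 1).trans ?_
  rw [one_smul]
  exact QCohLib.map_self (M := M) _ _

lemma free_app_top {n : ℕ} (φ : FlatMod.freeMod X n ⟶ M) (z : Γ(FlatMod.freeMod X n, ⊤)) :
    φ.app ⊤ z = ∑ i, coord ⊤ z i • φ.app ⊤ (gen X n i) := by
  refine (free_app_eq φ ⊤ z).trans (Finset.sum_congr rfl fun i _ => ?_)
  exact congrArg (coord ⊤ z i • ·) (QCohLib.map_self (M := M) _ _)

lemma eq_of_gl {n : ℕ} (φ ψ : FlatMod.freeMod X n ⟶ M)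
    (h : ∀ i, φ.app ⊤ (gen X n i) = ψ.app ⊤ (gen X n i)) : φ = ψ := by
  refine Scheme.Modules.hom_ext _ _ fun U => AddCommGrpCat.ext fun z => ?_
  exact ((free_app_eq φ U z).trans (by simp only [h])).trans (free_app_eq ψ U z).symm

/-- Coordinates, linearly. -/
noncomputable def coordEquiv (n : ℕ) : Γ(FlatMod.freeMod X n, ⊤) ≃ₗ[Γ(X, ⊤)] (Fin n → Γ(X, ⊤)) :=
  LinearEquiv.ofBijective (LinearMap.pi fun i => gl (proj X n i)) (coord_bijective n ⊤)

/-- Retracts of free modules. -/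
abbrev IsRetr (M : X.Modules) : Prop :=
  ∃ (n : ℕ) (i : M ⟶ FlatMod.freeMod X n) (r : FlatMod.freeMod X n ⟶ M), i ≫ r = 𝟙 M

lemma finite_projective (h : IsRetr M) : Module.Finite Γ(X, ⊤) Γ(M, ⊤) ∧ Module.Projective Γ(X, ⊤) Γ(M, ⊤) := by
  obtain ⟨n, i, r, hir⟩ := h
  have hl : (gl r ∘ₗ (coordEquiv n).symm.toLinearMap) ∘ₗ ((coordEquiv n).toLinearMap ∘ₗ gl i) = LinearMap.id :=
    LinearMap.ext fun z => by
      change r.app ⊤ ((coordEquiv n).symm (coordEquiv n (i.app ⊤ z))) = z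
      rw [LinearEquiv.symm_apply_apply, ← app_comp, hir]
      rfl
  exact ⟨Module.Finite.of_surjective (gl r ∘ₗ (coordEquiv n).symm.toLinearMap)
      (fun z => ⟨_, LinearMap.congr_fun hl z⟩),
    Module.Projective.of_split _ _ hl⟩

lemma exists_of_linearMap (h : IsRetr M) (g : Γ(M, ⊤) →ₗ[Γ(X, ⊤)] Γ(N, ⊤)) : ∃ φ : M ⟶ N, gl φ = g := by
  obtain ⟨n, i, r, hir⟩ := h
  refine ⟨i ≫ mkHom fun k => g (r.app ⊤ (gen X n k)), LinearMap.ext fun z => ?_⟩
  refine (app_comp i _ ⊤ z).trans ?_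
  rw [free_app_top]
  simp only [mkHom_gen]
  refine Eq.trans ?_ (congrArg g ((free_app_top r (i.app ⊤ z)).symm.trans
    ((app_comp i r ⊤ z).symm.trans (by rw [hir]; rfl))))
  rw [map_sum]
  simp only [map_smul]

lemma gl_injective (h : IsRetr M) {φ ψ : M ⟶ N} (e : gl φ = gl ψ) : φ = ψ := by
  obtain ⟨n, i, r, hir⟩ := h
  have h1 : r ≫ φ = r ≫ ψ := eq_of_gl _ _ fun k => LinearMap.congr_fun e (r.app ⊤ (gen X n k))
  rw [← Category.id_comp φ, ← Category.id_comp ψ, ← hir, Category.assoc, Category.assoc, h1]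

lemma exists_retr (P : Type u) [AddCommGroup P] [Module Γ(X, ⊤) P] [Module.Finite Γ(X, ⊤) P]
    [Module.Projective Γ(X, ⊤) P] : ∃ M : X.Modules, IsRetr M ∧ Nonempty (Γ(M, ⊤) ≃ₗ[Γ(X, ⊤)] P) := by
  obtain ⟨n, p, hp⟩ := Module.Finite.exists_fin' Γ(X, ⊤) P
  obtain ⟨s, hs⟩ := Module.projective_lifting_property p LinearMap.id hp
  let p' := p ∘ₗ (coordEquiv n).toLinearMap
  let s' := (coordEquiv n).symm.toLinearMap ∘ₗ s
  have hps : ∀ x, p' (s' x) = x := fun x => by
    change p (coordEquiv n ((coordEquiv n).symm (s x))) = x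
    rw [LinearEquiv.apply_symm_apply]
    exact LinearMap.congr_fun hs x
  have hfree : IsRetr (FlatMod.freeMod X n) := ⟨n, 𝟙 _, 𝟙 _, Category.id_comp _⟩
  obtain ⟨e, he⟩ := exists_of_linearMap hfree (s' ∘ₗ p')
  have hee : e ≫ e = e := gl_injective hfree (LinearMap.ext fun z => by
    refine (app_comp e e ⊤ z).trans ?_
    rw [← gl_apply, ← gl_apply, he]
    exact congrArg s' (hps _))
  obtain ⟨M, i, r, hir, hri⟩ := IsIdempotentComplete.idempotents_split (FlatMod.freeMod X n) e hee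
  have hri' : ∀ z, gl i (gl r z) = s' (p' z) := fun z =>
    (app_comp r i ⊤ z).symm.trans ((congrArg (fun f : FlatMod.freeMod X n ⟶ FlatMod.freeMod X n => f.app ⊤ z) hri).trans
      (LinearMap.congr_fun he z))
  have hir' : ∀ z, gl r (gl i z) = z := fun z =>
    (app_comp i r ⊤ z).symm.trans (by rw [hir]; rfl)
  refine ⟨M, ⟨n, i, r, hir⟩, ⟨LinearEquiv.ofLinear (p' ∘ₗ gl i) (gl r ∘ₗ s') (LinearMap.ext fun x => ?_)
    (LinearMap.ext fun z => ?_)⟩⟩
  · change p' (gl i (gl r (s' x))) = x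
    rw [hri', hps, hps]
  · change gl r (s' (p' (gl i z))) = z
    rw [← hri', hir', hir']

/-- Retracts of finite free modules are the finite projective modules. -/
theorem nonempty_equivalence (X : Scheme.{u}) :
    Nonempty ((ObjectProperty.FullSubcategory fun M : X.Modules => IsRetr M) ≌
      (ObjectProperty.FullSubcategory fun N : ModuleCat.{u} Γ(X, ⊤) =>
        Module.Finite Γ(X, ⊤) N ∧ Module.Projective Γ(X, ⊤) N)) := by
  let P : ObjectProperty (ModuleCat.{u} Γ(X, ⊤)) := fun N => Module.Finite Γ(X, ⊤) N ∧ Module.Projective Γ(X, ⊤) N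
  let Q : ObjectProperty X.Modules := fun M => IsRetr M
  let F : Q.FullSubcategory ⥤ P.FullSubcategory :=
    P.lift (Q.ι ⋙ gFun) fun M => finite_projective M.property
  haveI : F.Faithful := ⟨fun {M N φ ψ} h => by
    have h2 := congrArg P.ι.map h
    exact ObjectProperty.hom_ext _ (gl_injective M.property (congrArg ModuleCat.Hom.hom h2))⟩
  haveI : F.Full := ⟨fun {M N} g => by
    obtain ⟨φ, hφ⟩ := exists_of_linearMap M.property (P.ι.map g).hom
    exact ⟨ObjectProperty.homMk φ, ObjectProperty.hom_ext _ (ModuleCat.hom_ext hφ)⟩⟩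
  haveI : F.EssSurj := ⟨fun N => by
    haveI := N.property.1
    haveI := N.property.2
    obtain ⟨M, hM, ⟨e⟩⟩ := exists_retr (X := X) N.obj
    exact ⟨⟨M, hM⟩, ⟨P.isoMk e.toModuleIso⟩⟩⟩
  haveI : F.IsEquivalence := {}
  exact ⟨F.asEquivalence⟩

end Groth.Agent.FreeRetract
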